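import Groth.Agent.EqStab.StabFibre
import Groth.Agent.FibreDim.GroupScheme
import Groth.Agent.EGA43Topo.SectionCompDim
import Groth.Prelude.Def_GLinSh

/-!
# Semicontinuity of the dimension of stabilisers
-/

set_option autoImplicit false
set_option backward.isDefEq.respectTransparency false
set_option backward.isDefEq.respectTransparency.types false

universe u

open CategoryTheory CategoryTheory.Limits AlgebraicGeometry MonoidalCategory CartesianMonoidalCategory MonObj

noncomputable section

namespace Groth.EqStab

variable {S : Scheme.{u}} {G X T : Over S}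

theorem isPullback_whisker (Z : Over S) (f : T ⟶ X) :
    IsPullback (Z ◁ f) (snd Z T) (snd Z X) f :=
  ⟨⟨whiskerLeft_snd Z f⟩, ⟨PullbackCone.IsLimit.mk _ (fun c => lift (c.fst ≫ fst Z X) c.snd)
    (fun c => CartesianMonoidalCategory.hom_ext _ _ (by simp) (by simpa using c.condition.symm))
    (fun c => lift_snd _ _)
    fun c m h₁ h₂ => CartesianMonoidalCategory.hom_ext _ _ (by simp [← h₁])
      ((show m ≫ snd Z T = c.snd from h₂).trans (lift_snd _ _).symm)⟩⟩

variable [GrpObj G] (a : AlgGrp.Action G X)

/-- The stabiliser of a point is the base change of the stabiliser scheme. -/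
def stabIso (f : T ⟶ X) : GLinSh.stab a f ≅ pullback (stabProj a) f.left := by
  have top : IsPullback (G ◁ f) (GIT.psi a f) (GIT.psi a (𝟙 X)) (X ◁ f) := by
    refine IsPullback.of_bot ?_ ?_ (isPullback_whisker X f)
    · have e₁ : GIT.psi a f ≫ snd X T = snd G T := lift_snd _ _
      have e₂ : GIT.psi a (𝟙 X) ≫ snd X X = snd G X := lift_snd _ _
      rw [e₁, e₂]
      exact isPullback_whisker G f
    · apply CartesianMonoidalCategory.hom_ext <;> simp [GIT.psi]
  have h₁ := (IsPullback.of_hasPullback (GIT.psi a f).left (lift f (𝟙 T)).left).flip.paste_vert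
    (top.map (Over.forget S)).flip
  have h₂ := (IsPullback.of_hasPullback (stabProj a) f.left).flip.paste_vert
    (IsPullback.of_hasPullback (GIT.psi a (𝟙 X)).left (lift (𝟙 X) (𝟙 X)).left).flip
  have e : (lift f (𝟙 T)).left ≫ (X ◁ f).left = f.left ≫ (lift (𝟙 X) (𝟙 X)).left := by
    rw [← Over.comp_left, ← Over.comp_left, lift_whiskerLeft, comp_lift, Category.id_comp, Category.comp_id]
  simp only [Over.forget_map] at h₁
  rw [e] at h₁
  exact h₁.isoIsPullback _ _ h₂

/-- The unit section of the stabiliser scheme. -/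
def stabUnit : X.left ⟶ pullback (GIT.psi a (𝟙 X)).left (lift (𝟙 X) (𝟙 X)).left :=
  pullback.lift (lift (1 : X ⟶ G) (𝟙 X)).left (𝟙 X.left) (by
    rw [Category.id_comp, ← Over.comp_left]
    congr 1
    apply CartesianMonoidalCategory.hom_ext <;> simp [GIT.psi, a.lift_one_act])

theorem stabUnit_comp : stabUnit a ≫ stabProj a = 𝟙 X.left := pullback.lift_snd _ _ _

variable [LocallyOfFiniteType G.hom] [LocallyOfFiniteType X.hom]

theorem locallyOfFiniteType_stabProj : LocallyOfFiniteType (stabProj a) := by
  have : LocallyOfFiniteType (G ⊗ X).hom :=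
    inferInstanceAs (LocallyOfFiniteType (pullback.fst G.hom X.hom ≫ G.hom))
  have : LocallyOfFiniteType ((GIT.psi a (𝟙 X)).left ≫ (X ⊗ X).hom) := by rw [Over.w]; infer_instance
  have : LocallyOfFiniteType (GIT.psi a (𝟙 X)).left := locallyOfFiniteType_of_comp _ (X ⊗ X).hom
  exact MorphismProperty.pullback_snd _ _ inferInstance

theorem fibreDimAt_stabUnit (x : X.left) :
    FlatMor.fibreDimAt (stabProj a) (stabUnit a x) = topologicalKrullDim ↥((stabProj a).fiber x) := by
  have := locallyOfFiniteType_stabProj a
  let : GrpObj (stabFibre a x) := stabFibreGrpObj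
  have : LocallyOfFiniteType (stabFibre a x).hom :=
    inferInstanceAs (LocallyOfFiniteType (pullback.snd (stabProj a) (X.left.fromSpecResidueField x)))
  have hs : stabProj a (stabUnit a x) = x := by
    rw [← Scheme.Hom.comp_apply, stabUnit_comp]; rfl
  obtain ⟨z, hz⟩ := ((stabProj a).range_fiberι x).ge hs
  rw [← hz, Groth.FibreDim.fibreDimAt_fiberι]
  exact Groth.FibreDim.localDim_eq_dim_of_grpObj (k := X.left.residueField x) (stabFibre a x) z

theorem isClosed_le_dim_stab (n : WithBot ℕ∞) :
    IsClosed {x : X.left | n ≤ topologicalKrullDim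
      (GLinSh.stab a (Over.homMk (X.left.fromSpecResidueField x) rfl :
        Over.mk (X.left.fromSpecResidueField x ≫ X.hom) ⟶ X))} := by
  have := locallyOfFiniteType_stabProj a
  have key : ∀ x : X.left, topologicalKrullDim
      (GLinSh.stab a (Over.homMk (X.left.fromSpecResidueField x) rfl :
        Over.mk (X.left.fromSpecResidueField x ≫ X.hom) ⟶ X)) = FlatMor.fibreDimAt (stabProj a) (stabUnit a x) :=
    fun x => (IsHomeomorph.topologicalKrullDim_eq _ (Scheme.homeoOfIso (stabIso a _)).isHomeomorph).trans (fibreDimAt_stabUnit a x).symm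
  simp only [key]
  exact (Groth.EGA43Topo.SecComp.upperSemicontinuous_fibreDimAt_section (f := stabProj a)
    (g := stabUnit a)).isClosed_preimage n

end Groth.EqStab
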