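import Mathlib
import Groth.Prelude.Def_W4bk4git07Quot
import Groth.Agent.Agf.Quot
import Groth.Agent.GrpschAbsch.Cartier
import Groth.Agent.NeronArea.SmoothLocusNMP

/-!
The fibres of the stabilizer scheme of a group action are group schemes over the residue fields.
-/

set_option autoImplicit false

universe u

open CategoryTheory CategoryTheory.Limits AlgebraicGeometry MonoidalCategory
open scoped MonObj GrpObj CartesianMonoidalCategory

namespace Groth.EqStab

variable {S : Scheme.{u}} {G X : Over S} [GrpObj G] (a : AlgGrp.Action G X)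

/-- The projection of the stabilizer scheme to `X`. -/
noncomputable abbrev stabProj :
    pullback (GIT.psi a (𝟙 X)).left (CartesianMonoidalCategory.lift (𝟙 X) (𝟙 X)).left ⟶ X.left :=
  pullback.snd (GIT.psi a (𝟙 X)).left (CartesianMonoidalCategory.lift (𝟙 X) (𝟙 X)).left

variable (x : ↥X.left)

/-- Schemes over `κ(x)` as schemes over `S`. -/
noncomputable abbrev toS (T : Over (Spec (X.left.residueField x))) : Over S :=
  Over.mk (T.hom ≫ X.left.fromSpecResidueField x ≫ X.hom)

/-- The tautological point over `x`. -/
noncomputable def taut (T : Over (Spec (X.left.residueField x))) : toS x T ⟶ X :=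
  Over.homMk (T.hom ≫ X.left.fromSpecResidueField x) (Category.assoc _ _ _)

/-- Functoriality of `toS`. -/
noncomputable def toSMap {T T' : Over (Spec (X.left.residueField x))} (φ : T' ⟶ T) : toS x T' ⟶ toS x T :=
  Over.homMk φ.left (by
    show φ.left ≫ T.hom ≫ X.left.fromSpecResidueField x ≫ X.hom = T'.hom ≫ X.left.fromSpecResidueField x ≫ X.hom
    rw [← Category.assoc, Over.w φ])

theorem toSMap_taut {T T' : Over (Spec (X.left.residueField x))} (φ : T' ⟶ T) :
    toSMap x φ ≫ taut x T = taut x T' := by
  apply Over.OverMorphism.ext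
  show φ.left ≫ T.hom ≫ X.left.fromSpecResidueField x = T'.hom ≫ X.left.fromSpecResidueField x
  rw [← Category.assoc, Over.w φ]

/-- The stabilizer of the tautological point. -/
noncomputable def stabSubgroup (T : Over (Spec (X.left.residueField x))) : Subgroup (toS x T ⟶ G) where
  carrier := {g | CartesianMonoidalCategory.lift g (taut x T) ≫ a.act = taut x T}
  mul_mem' {g h} hg hh := by
    simp only [Set.mem_ofPred_eq] at hg hh ⊢
    rw [Groth.Agf.lift_mul_act, hh, hg]
  one_mem' := Groth.Agf.lift_one_act a _
  inv_mem' {g} hg := by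
    simp only [Set.mem_ofPred_eq] at hg ⊢
    conv_lhs => rw [← hg]
    rw [← Groth.Agf.lift_mul_act, inv_mul_cancel, Groth.Agf.lift_one_act]

theorem mem_stabSubgroup_comp {T T' : Over (Spec (X.left.residueField x))} (φ : T' ⟶ T) (g : toS x T ⟶ G)
    (hg : g ∈ stabSubgroup a x T) : toSMap x φ ≫ g ∈ stabSubgroup a x T' := by
  have hg' : CartesianMonoidalCategory.lift g (taut x T) ≫ a.act = taut x T := hg
  show CartesianMonoidalCategory.lift (toSMap x φ ≫ g) (taut x T') ≫ a.act = taut x T'
  rw [← toSMap_taut x φ, ← CartesianMonoidalCategory.comp_lift, Category.assoc, hg']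

/-- The functor of points of the stabilizer of `x`. -/
noncomputable def stabFunctor : (Over (Spec (X.left.residueField x)))ᵒᵖ ⥤ GrpCat.{u} where
  obj T := GrpCat.of (stabSubgroup a x T.unop)
  map {T T'} φ := GrpCat.ofHom
    { toFun := fun g => ⟨toSMap x φ.unop ≫ g.1, mem_stabSubgroup_comp a x φ.unop g.1 g.2⟩
      map_one' := Subtype.ext (MonObj.comp_one _)
      map_mul' := fun g h => Subtype.ext (MonObj.comp_mul _ _ _) }
  map_id T := GrpCat.hom_ext (MonoidHom.ext fun g => Subtype.ext (by
    show toSMap x (𝟙 T.unop) ≫ g.1 = g.1
    rw [show toSMap x (𝟙 T.unop) = 𝟙 _ from Over.OverMorphism.ext rfl, Category.id_comp]))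
  map_comp {T T' T''} φ ψ := GrpCat.hom_ext (MonoidHom.ext fun g => Subtype.ext (by
    show toSMap x (ψ.unop ≫ φ.unop) ≫ g.1 = toSMap x ψ.unop ≫ toSMap x φ.unop ≫ g.1
    rw [show toSMap x (ψ.unop ≫ φ.unop) = toSMap x ψ.unop ≫ toSMap x φ.unop from Over.OverMorphism.ext rfl,
      Category.assoc]))

/-- The fibre of the stabilizer scheme over `x`. -/
noncomputable abbrev stabFibre : Over (Spec (X.left.residueField x)) :=
  Over.mk ((stabProj a).fiberToSpecResidueField x)

variable {a x}

/-- The underlying morphism of a point of the fibre. -/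
noncomputable def leftOf {T : Over (Spec (X.left.residueField x))} (u : T ⟶ stabFibre a x) :
    T.left ⟶ (stabProj a).fiber x := u.left

theorem leftOf_hom {T : Over (Spec (X.left.residueField x))} (u : T ⟶ stabFibre a x) :
    leftOf u ≫ (stabProj a).fiberToSpecResidueField x = T.hom := Over.w u

theorem fiber_condition {T : Over (Spec (X.left.residueField x))} (u : T ⟶ stabFibre a x) :
    leftOf u ≫ (stabProj a).fiberι x ≫ stabProj a = T.hom ≫ X.left.fromSpecResidueField x := by
  rw [← leftOf_hom u, Category.assoc]
  congr 1
  exact pullback.condition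

theorem point_condition {T : Over (Spec (X.left.residueField x))} (u : T ⟶ stabFibre a x) :
    (leftOf u ≫ (stabProj a).fiberι x ≫ pullback.fst _ _) ≫ (G ⊗ X).hom =
      (toS x T).hom := by
  have h := congrArg (fun r => r ≫ X.hom) (fiber_condition u)
  simp only [Category.assoc] at h
  show _ = T.hom ≫ X.left.fromSpecResidueField x ≫ X.hom
  rw [← h, Category.assoc, Category.assoc]
  congr 2
  rw [← Over.w (GIT.psi a (𝟙 X)), pullback.condition_assoc,
    Over.w (CartesianMonoidalCategory.lift (𝟙 X) (𝟙 X))]

/-- The point of `G ⊗ X` of a point of the stabilizer fibre. -/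
noncomputable def point {T : Over (Spec (X.left.residueField x))} (u : T ⟶ stabFibre a x) : toS x T ⟶ G ⊗ X :=
  Over.homMk (leftOf u ≫ (stabProj a).fiberι x ≫ pullback.fst _ _) (point_condition u)

theorem point_psi {T : Over (Spec (X.left.residueField x))} (u : T ⟶ stabFibre a x) :
    point u ≫ GIT.psi a (𝟙 X) = taut x T ≫ CartesianMonoidalCategory.lift (𝟙 X) (𝟙 X) := by
  apply Over.OverMorphism.ext
  show (leftOf u ≫ (stabProj a).fiberι x ≫ pullback.fst _ _) ≫ (GIT.psi a (𝟙 X)).left =
    (T.hom ≫ X.left.fromSpecResidueField x) ≫ (CartesianMonoidalCategory.lift (𝟙 X) (𝟙 X)).left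
  rw [← fiber_condition u, Category.assoc, Category.assoc, pullback.condition, Category.assoc, Category.assoc]

theorem point_snd {T : Over (Spec (X.left.residueField x))} (u : T ⟶ stabFibre a x) :
    point u ≫ CartesianMonoidalCategory.snd G X = taut x T := by
  have := congrArg (fun r => r ≫ CartesianMonoidalCategory.snd X X) (point_psi u)
  simpa [GIT.psi] using this

theorem point_fst_mem {T : Over (Spec (X.left.residueField x))} (u : T ⟶ stabFibre a x) :
    point u ≫ CartesianMonoidalCategory.fst G X ∈ stabSubgroup a x T := by
  show CartesianMonoidalCategory.lift _ (taut x T) ≫ a.act = taut x T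
  have e : CartesianMonoidalCategory.lift (point u ≫ CartesianMonoidalCategory.fst G X) (taut x T) = point u := by
    apply CartesianMonoidalCategory.hom_ext <;> simp [point_snd]
  rw [e]
  have := congrArg (fun r => r ≫ CartesianMonoidalCategory.fst X X) (point_psi u)
  simpa [GIT.psi] using this

theorem lift_condition {T : Over (Spec (X.left.residueField x))} (g : stabSubgroup a x T) :
    (CartesianMonoidalCategory.lift g.1 (taut x T)).left ≫ (GIT.psi a (𝟙 X)).left =
      (taut x T).left ≫ (CartesianMonoidalCategory.lift (𝟙 X) (𝟙 X)).left := by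
  have hg : CartesianMonoidalCategory.lift g.1 (taut x T) ≫ a.act = taut x T := g.2
  rw [← Over.comp_left, ← Over.comp_left]
  congr 1
  apply CartesianMonoidalCategory.hom_ext <;> simp [GIT.psi, hg]

/-- The point of the fibre of an element of the stabilizer. -/
noncomputable def ofStab {T : Over (Spec (X.left.residueField x))} (g : stabSubgroup a x T) :
    T ⟶ stabFibre a x :=
  Over.homMk (pullback.lift (pullback.lift (CartesianMonoidalCategory.lift g.1 (taut x T)).left (taut x T).left
    (lift_condition g)) T.hom (by rw [pullback.lift_snd]; rfl)) (pullback.lift_snd _ _ _)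

theorem point_ofStab {T : Over (Spec (X.left.residueField x))} (g : stabSubgroup a x T) :
    point (ofStab g) = CartesianMonoidalCategory.lift g.1 (taut x T) := by
  apply Over.OverMorphism.ext
  show pullback.lift _ _ _ ≫ pullback.fst _ _ ≫ pullback.fst _ _ = _
  rw [pullback.lift_fst_assoc, pullback.lift_fst]

theorem point_injective {T : Over (Spec (X.left.residueField x))} {u v : T ⟶ stabFibre a x}
    (h : point u = point v) : u = v := by
  apply Over.OverMorphism.ext
  have h0 : leftOf u ≫ (stabProj a).fiberι x ≫ pullback.fst _ _ = leftOf v ≫ (stabProj a).fiberι x ≫ pullback.fst _ _ :=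
    congrArg CommaMorphism.left h
  show leftOf u = leftOf v
  have h1 := (fiber_condition u).trans (fiber_condition v).symm
  have h2 := (leftOf_hom u).trans (leftOf_hom v).symm
  refine pullback.hom_ext ?_ h2
  refine pullback.hom_ext ?_ ?_
  · exact ((Category.assoc _ _ _).trans h0).trans (Category.assoc _ _ _).symm
  · exact ((Category.assoc _ _ _).trans h1).trans (Category.assoc _ _ _).symm

theorem point_comp {T T' : Over (Spec (X.left.residueField x))} (φ : T' ⟶ T) (u : T ⟶ stabFibre a x) :
    point (φ ≫ u) = toSMap x φ ≫ point u := by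
  apply Over.OverMorphism.ext
  show (φ.left ≫ u.left) ≫ _ = φ.left ≫ _
  rw [Category.assoc]
  rfl

/-- The fibre represents the stabilizer. -/
noncomputable def representableBy : (stabFunctor a x ⋙ forget _).RepresentableBy (stabFibre a x) where
  homEquiv {T} :=
    { toFun := fun u => (⟨point u ≫ CartesianMonoidalCategory.fst G X, point_fst_mem u⟩ : stabSubgroup a x T)
      invFun := fun g => ofStab (T := T) g
      left_inv := fun u => point_injective (by
        rw [point_ofStab]
        apply CartesianMonoidalCategory.hom_ext <;> simp [point_snd])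
      right_inv := fun g => Subtype.ext (by
        exact (congrArg (fun r => r ≫ CartesianMonoidalCategory.fst G X) (point_ofStab (T := T) g)).trans
          (CartesianMonoidalCategory.lift_fst _ _)) }
  homEquiv_comp {T' T} φ u := Subtype.ext (by
    show point (φ ≫ u) ≫ CartesianMonoidalCategory.fst G X = toSMap x φ ≫ point u ≫ CartesianMonoidalCategory.fst G X
    rw [point_comp, Category.assoc])

/-- The group structure on the fibre of the stabilizer. -/
noncomputable instance stabFibreGrpObj : GrpObj (stabFibre a x) :=
  GrpObj.ofRepresentableBy _ (stabFunctor a x) representableBy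

variable (a x)

/-- The unit section. -/
noncomputable def unitSection : Spec (X.left.residueField x) ⟶ (stabProj a).fiber x :=
  (ofStab (a := a) (x := x) (T := Over.mk (𝟙 _)) 1).left

theorem unitSection_comp : unitSection a x ≫ (stabProj a).fiberToSpecResidueField x = 𝟙 _ :=
  Over.w (ofStab (a := a) (x := x) (T := Over.mk (𝟙 _)) 1)

/-- A universally injective reduced separated scheme over a field with a rational point is the field. -/
theorem isIso_of_reduced {F : Scheme.{u}} {R : Scheme.{u}} [Subsingleton R] (f : F ⟶ R) [IsReduced F] [IsSeparated f]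
    [UniversallyInjective f] (e : R ⟶ F) (he : e ≫ f = 𝟙 R) : IsIso f := by
  haveI : IsClosedImmersion (e ≫ f) := by rw [he]; infer_instance
  haveI : IsClosedImmersion e := IsClosedImmersion.of_comp e f
  haveI : Surjective e := ⟨fun y => ⟨f y, f.injective (Subsingleton.elim _ _)⟩⟩
  haveI : IsIso e := isIso_of_isClosedImmersion_of_surjective e
  rw [show f = inv e from (IsIso.eq_inv_of_hom_inv_id he)]
  infer_instance

/-- Trivial fibres make the stabilizer universally injective. -/
theorem universallyInjective_of_fibres {Z Y : Scheme.{u}} (f : Z ⟶ Y)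
    (h : ∀ y : Y, IsIso (f.fiberToSpecResidueField y)) : UniversallyInjective f := by
  rw [UniversallyInjective.iff_diagonal]
  refine ⟨fun z => ?_⟩
  let κ := (pullback f f).fromSpecResidueField z
  let p := κ ≫ pullback.fst f f
  let q := κ ≫ pullback.snd f f
  let w := pullback.fst f f z
  let y := f w
  have hy : Set.range (p ≫ f) ⊆ Set.range (Y.fromSpecResidueField y) := by
    rintro _ ⟨t, rfl⟩
    rw [Scheme.range_fromSpecResidueField, Set.mem_singleton_iff]
    show f (pullback.fst f f (κ t)) = y
    rw [show κ t = z from (pullback f f).fromSpecResidueField_apply z t]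
  obtain ⟨j, hj⟩ : ∃ j, j ≫ Y.fromSpecResidueField y = p ≫ f := by
    exact ⟨Spec.map ((f.residueFieldMap w) ≫ (pullback.fst f f).residueFieldMap z), by
      rw [Spec.map_comp, Category.assoc, Scheme.Hom.SpecMap_residueFieldMap_fromSpecResidueField,
        ← Category.assoc, Scheme.Hom.SpecMap_residueFieldMap_fromSpecResidueField]⟩
  have hpq : p ≫ f = q ≫ f := by simp only [p, q, Category.assoc, pullback.condition]
  haveI := h y
  haveI : Mono (pullback.snd f (Y.fromSpecResidueField y)) := by
    show Mono (f.fiberToSpecResidueField y)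
    infer_instance
  have heq : pullback.lift p j (by rw [hj]) = pullback.lift (f := f) (g := Y.fromSpecResidueField y) q j
      (by rw [hj, hpq]) := by
    rw [← cancel_mono (pullback.snd f (Y.fromSpecResidueField y)), pullback.lift_snd, pullback.lift_snd]
  have hpq' : p = q := by
    have := congrArg (fun r => r ≫ pullback.fst _ _) heq
    simp only [pullback.lift_fst] at this
    exact this
  have hκ : κ = p ≫ pullback.diagonal f := by
    apply pullback.hom_ext
    · simp [p]
    · simp [p]
      exact hpq'.symm
  refine ⟨p (IsLocalRing.closedPoint _), ?_⟩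
  have e2 := congrArg (fun r => r.base (IsLocalRing.closedPoint ((pullback f f).residueField z))) hκ.symm
  refine e2.trans ?_
  exact (pullback f f).fromSpecResidueField_apply z _

end Groth.EqStab
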